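import Groth.Agent.Lib.StAlg16.QCMor
import Groth.Agent.Lib.StAlg16.LocQ

/-!
# Charts of base changes of categories over a slice
-/

universe v₇ u₇ v₆ u₆ v₅ u₅ v₄ u₄ v₃ u₃ v₂ u₂ v u

open CategoryTheory CategoryTheory.Functor CategoryTheory.Limits AlgebraicGeometry Opposite

set_option linter.style.haveILetI false
set_option linter.unusedSectionVars false
set_option backward.isDefEq.respectTransparency false
set_option backward.isDefEq.respectTransparency.types false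

namespace Groth.Agent.StUC16

section General

open Groth.Agent.FC16

variable {C : Type u} [Category.{v} C] {𝒳 : BasedCategory.{v₂, u₂} C} {𝒴 : BasedCategory.{v₃, u₃} C}
  {𝒮 : BasedCategory.{v₄, u₄} C} {𝒲 : BasedCategory.{v₅, u₅} C}

/-- A functor into a fibre product is induced by functors isomorphic to its components. -/
noncomputable def liftIso {F : 𝒳 ⥤ᵇ 𝒮} {G : 𝒴 ⥤ᵇ 𝒮} (w : 𝒲 ⥤ᵇ FibCat.fp F G) (a : 𝒲 ⥤ᵇ 𝒳) (b : 𝒲 ⥤ᵇ 𝒴)
    (e : BasedFunctor.comp a F ≅ BasedFunctor.comp b G) (i : BasedFunctor.comp w (FibCat.fpFst F G) ≅ a)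
    (k : BasedFunctor.comp w (FibCat.fpSnd F G) ≅ b)
    (h : ∀ x, F.map (appIso i x).hom ≫ (appIso e x).hom = (w.obj x).obj.iso.hom ≫ G.map (appIso k x).hom) :
    w ≅ FibCat.fpLift a b e :=
  BasedNatIso.mkNatIso
    (NatIso.ofComponents (fun x => fpIsoMk (appIso i x) (appIso k x) (h x)) (fun {_ _} φ => fp_hom_ext
      (i.hom.toNatTrans.naturality φ) (k.hom.toNatTrans.naturality φ)))
    (fun x => @isHomLift_of_fst _ _ _ _ _ _ _ _ _ _ _ _ _ (isHomLift_appIso_hom i x rfl))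

/-- morphisms in a slice over an identity are unique -/
lemma overCat_hom_ext {V : C} {a b : (FibCat.overCat V).obj} {R : C} (φ ψ : a ⟶ b)
    [(FibCat.overCat V).p.IsHomLift (𝟙 R) φ] [(FibCat.overCat V).p.IsHomLift (𝟙 R) ψ] : φ = ψ := by
  obtain ⟨h, hh⟩ := left_hom_eq (R := R) φ
  obtain ⟨h', hh'⟩ := left_hom_eq (R := R) ψ
  exact Over.OverMorphism.ext (hh.trans hh'.symm)

/-- Functors into a fibre product over a slice are determined by their components. -/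
theorem iso_of_proj {V : C} {F : 𝒳 ⥤ᵇ FibCat.overCat V} {G : 𝒴 ⥤ᵇ FibCat.overCat V}
    (w w' : 𝒲 ⥤ᵇ FibCat.fp F G)
    (i : BasedFunctor.comp w (FibCat.fpFst F G) ≅ BasedFunctor.comp w' (FibCat.fpFst F G))
    (k : BasedFunctor.comp w (FibCat.fpSnd F G) ≅ BasedFunctor.comp w' (FibCat.fpSnd F G)) :
    Nonempty (w ≅ w') := by
  refine ⟨BasedNatIso.mkNatIso
    (NatIso.ofComponents (fun x => fpIsoMk (appIso i x) (appIso k x) ?_) (fun {_ _} φ => fp_hom_ext
      (i.hom.toNatTrans.naturality φ) (k.hom.toNatTrans.naturality φ)))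
    (fun x => @isHomLift_of_fst _ _ _ _ _ _ _ _ _ _ _ _ _ (isHomLift_appIso_hom i x rfl))⟩
  let R := 𝒲.p.obj x
  haveI := isHomLift_appIso_hom i x (U := R) rfl
  haveI := isHomLift_appIso_hom k x (U := R) rfl
  haveI := iso_lift (w.obj x) (U := R) ((BasedFunctor.comp w (FibCat.fpFst F G)).w_obj x)
  haveI := iso_lift (w'.obj x) (U := R) ((BasedFunctor.comp w' (FibCat.fpFst F G)).w_obj x)
  haveI : (FibCat.overCat V).p.IsHomLift (𝟙 R) (F.map (appIso i x).hom) :=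
    BasedFunctor.preserves_isHomLift F _ _
  haveI : (FibCat.overCat V).p.IsHomLift (𝟙 R) (G.map (appIso k x).hom) :=
    BasedFunctor.preserves_isHomLift G _ _
  exact overCat_hom_ext (R := R) _ _

variable {𝒵 : BasedCategory.{v₆, u₆} C} {𝒱 : BasedCategory.{v₇, u₇} C}

/-- reassociate -/
noncomputable def assocIso (x : 𝒲 ⥤ᵇ 𝒳) (y : 𝒳 ⥤ᵇ 𝒴) (z : 𝒴 ⥤ᵇ 𝒵) {w : 𝒳 ⥤ᵇ 𝒵}
    (i : BasedFunctor.comp y z ≅ w) :
    BasedFunctor.comp (BasedFunctor.comp x y) z ≅ BasedFunctor.comp x w :=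
  wlIso x i

variable (F : 𝒳 ⥤ᵇ 𝒮) (G : 𝒴 ⥤ᵇ 𝒮) (H : 𝒵 ⥤ᵇ 𝒴) {E' : FibCat.fp F (BasedFunctor.comp H G) ⥤ᵇ
    FibCat.fp (FibCat.fpSnd F G) H}
  (β : BasedFunctor.comp E' (pasteR F G H) ≅ BasedFunctor.id _)

/-- the first component of an inverse of pasting -/
noncomputable def invPasteFst :
    BasedFunctor.comp (BasedFunctor.comp E' (FibCat.fpFst (FibCat.fpSnd F G) H)) (FibCat.fpFst F G) ≅
      FibCat.fpFst F (BasedFunctor.comp H G) :=
  (Groth.Agent.StAlg.wrIso β (FibCat.fpFst F (BasedFunctor.comp H G)) :)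

/-- the second component of an inverse of pasting -/
noncomputable def invPasteSnd :
    BasedFunctor.comp E' (FibCat.fpSnd (FibCat.fpSnd F G) H) ≅ FibCat.fpSnd F (BasedFunctor.comp H G) :=
  (Groth.Agent.StAlg.wrIso β (FibCat.fpSnd F (BasedFunctor.comp H G)) :)

/-- change of the second functor -/
noncomputable def changeSnd {G' : 𝒴 ⥤ᵇ 𝒮} (e : G' ≅ G) : FibCat.fp F G ⥤ᵇ FibCat.fp F G' :=
  fpMap (F := F) (G := G) (F' := F) (G' := G') (a := BasedFunctor.id 𝒳)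
    (b := BasedFunctor.id 𝒴) (s := BasedFunctor.id 𝒮) (Iso.refl _) (e :)

theorem changeSnd_isEquivOver {G' : 𝒴 ⥤ᵇ 𝒮} (e : G' ≅ G) : FibCat.IsEquivOver (changeSnd F G e) :=
  haveI : (BasedFunctor.id 𝒮).toFunctor.Full := inferInstanceAs (Functor.id 𝒮.obj).Full
  haveI : (BasedFunctor.id 𝒮).toFunctor.Faithful := inferInstanceAs (Functor.id 𝒮.obj).Faithful
  fpMap_isEquivOver _ _ isEquivOver_id isEquivOver_id

/-- first component of a change of the second functor -/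
noncomputable def mapFstIso {G' : 𝒴 ⥤ᵇ 𝒮} (e : G' ≅ G) :
    BasedFunctor.comp (changeSnd F G e) (FibCat.fpFst F G') ≅ FibCat.fpFst F G :=
  Iso.refl _

/-- second component of a change of the second functor -/
noncomputable def mapSndIso {G' : 𝒴 ⥤ᵇ 𝒮} (e : G' ≅ G) :
    BasedFunctor.comp (changeSnd F G e) (FibCat.fpSnd F G') ≅ FibCat.fpSnd F G :=
  Iso.refl _

end General

open Groth.Agent.FC16 hiding overMap
open Groth.Agent.StAlg Groth.Agent.StAlg16 AlgSt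

variable {S : Scheme.{u}}

theorem ofChart_comp_apply {U : Over S} {𝒳 : AlgSt.Cat S} {𝒴 : AlgSt.Cat S} (x : FibCat.overCat U ⥤ᵇ 𝒳)
    (f : 𝒳 ⥤ᵇ 𝒴) (t : U.left) :
    Points.ofChart (BasedFunctor.comp x f) t = Points.map f (Points.ofChart x t) := by
  rw [ofChart_eq, StAlg16.map_comp_apply, ← ofChart_eq]

theorem ofChart_overMap_self {U V : Over S} (k : U ⟶ V) (t : U.left) :
    Points.ofChart (AlgSt.overMap k) t = Points.mk (chartPt V (k.left t)) := by
  rw [ofChart_eq, map_overMap_chartPt]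

/-- The data of a chart of a base change. -/
structure BChart {𝒬 : AlgSt.Cat S} {V P T : Over S} (π : 𝒬 ⥤ᵇ FibCat.overCat V)
    (c : FibCat.overCat P ⥤ᵇ 𝒬) (g : T ⟶ V) {Q : Over S} (p₁ : Q ⟶ T) (p₂ : Q ⟶ P) where
  d : FibCat.overCat Q ⥤ᵇ FibCat.fp (AlgSt.overMap g) π
  smooth : AlgSt.RepByAlgSpWith (AlgSp.LocP @Smooth) d
  surj : Function.Surjective (Points.ofChart d)
  isoFst : BasedFunctor.comp d (FibCat.fpFst (AlgSt.overMap g) π) ≅ AlgSt.overMap p₁
  isoSnd : BasedFunctor.comp d (FibCat.fpSnd (AlgSt.overMap g) π) ≅ BasedFunctor.comp (AlgSt.overMap p₂) c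
  cart : ∀ (z : Points (FibCat.fp (AlgSt.overMap g) π)) (a : P.left),
    Points.map (FibCat.fpSnd (AlgSt.overMap g) π) z = Points.ofChart c a →
      ∃ q, Points.ofChart d q = z ∧ p₂.left q = a

/-- first component of the slice of a fibre product -/
noncomputable def overPullbackFst {A B C P : Over S} {f : A ⟶ C} {g : B ⟶ C} {p₁ : P ⟶ A} {p₂ : P ⟶ B}
    (w : p₁ ≫ f = p₂ ≫ g) :
    BasedFunctor.comp (overPullback w) (FibCat.fpFst (AlgSt.overMap f) (AlgSt.overMap g)) ≅ AlgSt.overMap p₁ :=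
  Iso.refl _

/-- second component of the slice of a fibre product -/
noncomputable def overPullbackSnd {A B C P : Over S} {f : A ⟶ C} {g : B ⟶ C} {p₁ : P ⟶ A} {p₂ : P ⟶ B}
    (w : p₁ ≫ f = p₂ ≫ g) :
    BasedFunctor.comp (overPullback w) (FibCat.fpSnd (AlgSt.overMap f) (AlgSt.overMap g)) ≅ AlgSt.overMap p₂ :=
  Iso.refl _

variable {𝒬 : AlgSt.Cat S} {V P T Q : Over S} {π : 𝒬 ⥤ᵇ FibCat.overCat V}
  {c : FibCat.overCat P ⥤ᵇ 𝒬} {g : T ⟶ V} {b : P ⟶ V} {p₁ : Q ⟶ T} {p₂ : Q ⟶ P}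

theorem exists_bChart (h𝒬 : FibCat.IsFibGrpd 𝒬.p) (hc : AlgSt.RepByAlgSpWith (AlgSp.LocP @Smooth) c)
    (hcs : Function.Surjective (Points.ofChart c))
    (j : BasedFunctor.comp c π ≅ AlgSt.overMap b) (h : IsPullback p₁ p₂ g b) :
    Nonempty (BChart π c g p₁ p₂) := by
  let G := AlgSt.overMap g
  let M := changeSnd G (AlgSt.overMap b) j
  have hM : FibCat.IsEquivOver M := changeSnd_isEquivOver G (AlgSt.overMap b) j
  obtain ⟨E', hE', -, ⟨β⟩⟩ := exists_inverse (pasteR_isEquivOver G π c)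
  let A := BasedFunctor.comp (overPullback h.w) (BasedFunctor.comp M E')
  have hA : FibCat.IsEquivOver A := isEquivOver_comp (overPullback_isEquivOver h) (isEquivOver_comp hM hE')
  have gX := fp_isFibGrpd (overCat_isFibGrpd T) h𝒬 (overCat_isFibGrpd V) G π
  let O := overPullback h.w
  let d := BasedFunctor.comp O (BasedFunctor.comp M (BasedFunctor.comp E' (FibCat.fpFst (FibCat.fpSnd G π) c)))
  have hd : AlgSt.RepByAlgSpWith (AlgSp.LocP @Smooth) d :=
    with_comp_equiv (overPullback_isEquivOver h) (with_comp_equiv hM (with_comp_equiv hE' (with_fpFst _ hc)))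
  let i₁ : BasedFunctor.comp d (FibCat.fpFst G π) ≅ AlgSt.overMap p₁ :=
    assocIso O _ _ (assocIso M _ _ (invPasteFst G π c β) ≪≫ mapFstIso G (AlgSt.overMap b) j) ≪≫
      overPullbackFst h.w
  let i₃ : BasedFunctor.comp A (FibCat.fpSnd (FibCat.fpSnd G π) c) ≅ AlgSt.overMap p₂ :=
    assocIso O _ _ (assocIso M _ _ (invPasteSnd G π c β) ≪≫ mapSndIso G (AlgSt.overMap b) j) ≪≫
      overPullbackSnd h.w
  let i₂ : BasedFunctor.comp d (FibCat.fpSnd G π) ≅ BasedFunctor.comp (AlgSt.overMap p₂) c :=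
    assocIso O _ _ (assocIso M _ _ (assocIso E' _ _ (FibCat.fpIso (FibCat.fpSnd G π) c))) ≪≫
      wrIso i₃ c
  have key : ∀ (z : Points (FibCat.fp G π)) (a : P.left),
      Points.map (FibCat.fpSnd G π) z = Points.ofChart c a →
        ∃ q, Points.ofChart d q = z ∧ p₂.left q = a := by
    intro z a hza
    obtain ⟨w, hw₁, hw₂⟩ := exists_fp_point (overCat_isFibGrpd P) h𝒬 gX c (FibCat.fpSnd G π) z
      (Points.mk (chartPt P a)) (by rw [hza, ofChart_eq])
    obtain ⟨q₀, rfl⟩ := (map_bijective hA).2 w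
    refine ⟨ptOf q₀, ?_, ?_⟩
    · rw [ofChart_eq, mk_chartPt_ptOf]
      simp only [d, A, O, StAlg16.map_comp_apply] at hw₁ ⊢
      exact hw₁
    · rw [← ptOf_map_overMap, ← map_eq_map_of_iso i₃, StAlg16.map_comp_apply, hw₂, ptOf_chartPt]
  refine ⟨⟨d, hd, fun z => ?_, i₁, i₂, key⟩⟩
  obtain ⟨a, ha⟩ := hcs (Points.map (FibCat.fpSnd G π) z)
  obtain ⟨q, hq, -⟩ := key z a ha.symm
  exact ⟨q, hq⟩

namespace BChart

variable (D : BChart π c g p₁ p₂)

theorem map_fst (q : Q.left) :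
    Points.map (FibCat.fpFst (AlgSt.overMap g) π) (Points.ofChart D.d q) =
      Points.mk (chartPt T (p₁.left q)) := by
  rw [← ofChart_comp_apply, ofChart_congr D.isoFst, ofChart_overMap_self]

theorem map_snd (q : Q.left) :
    Points.map (FibCat.fpSnd (AlgSt.overMap g) π) (Points.ofChart D.d q) = Points.ofChart c (p₂.left q) := by
  rw [← ofChart_comp_apply, ofChart_congr D.isoSnd, ofChart_overMap]

theorem isOpenMap_ofChart (h𝒬 : FibCat.IsFibGrpd 𝒬.p) : IsOpenMap (Points.ofChart D.d) :=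
  StAlg16.isOpenMap_ofChart (fp_isFibGrpd (overCat_isFibGrpd T) h𝒬 (overCat_isFibGrpd V) _ _)
    (with_locP_mono smooth_le_flat D.smooth) (with_locP_mono smooth_le_lfp D.smooth)

end BChart

end Groth.Agent.StUC16
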