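import Groth.Agent.Lib.StUC16.Noeth
import Groth.Agent.Lib.DVRVal.Univ

/-!
# Reduction of closedness to bases of finite type
-/

universe u

open CategoryTheory CategoryTheory.Functor CategoryTheory.Limits AlgebraicGeometry Opposite

set_option linter.style.haveILetI false
set_option linter.unusedSectionVars false
set_option backward.isDefEq.respectTransparency false
set_option backward.isDefEq.respectTransparency.types false

namespace Groth.Agent.StUC16

open Groth.Agent.FC16 hiding overMap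
open Groth.Agent.StAlg Groth.Agent.StAlg16 AlgSt
open Groth.Agent.DVRVal (baseMap transMap toSub)

variable {S : Scheme.{u}} {R : Type u} [CommRing R] {strV : Spec (CommRingCat.of R) ⟶ S} {P : Over S}
  (b : P ⟶ Over.mk strV) (B : Type u) [CommRing B] [Algebra R B]

/-- the spectrum of an algebra over the base -/
noncomputable abbrev algOver (strV : Spec (CommRingCat.of R) ⟶ S) : Over S :=
  Over.mk (baseMap R B (𝟙 (Spec (CommRingCat.of R))) ≫ strV)

/-- its map to the base -/
noncomputable abbrev algTo (strV : Spec (CommRingCat.of R) ⟶ S) : algOver B strV ⟶ Over.mk strV :=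
  Over.homMk (baseMap R B (𝟙 (Spec (CommRingCat.of R)))) rfl

/-- the base change of a scheme over the base -/
noncomputable abbrev bc : Over S :=
  Over.mk (pullback.fst b.left (baseMap R B (𝟙 (Spec (CommRingCat.of R)))) ≫ P.hom)

/-- projection to the algebra -/
noncomputable abbrev bcProj : bc b B ⟶ algOver B strV :=
  Over.homMk (pullback.snd b.left (baseMap R B (𝟙 (Spec (CommRingCat.of R))))) (by
    show _ ≫ _ ≫ strV = _ ≫ P.hom
    rw [← Category.assoc, ← pullback.condition, Category.assoc]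
    exact congrArg (_ ≫ ·) (Over.w b))

/-- projection to the scheme -/
noncomputable abbrev bcFst : bc b B ⟶ P :=
  Over.homMk (pullback.fst b.left (baseMap R B (𝟙 (Spec (CommRingCat.of R))))) rfl

theorem isPullback_bc : IsPullback (bcProj b B) (bcFst b B) (algTo B strV) b :=
  IsPullback.of_map (Over.forget S) (Over.OverMorphism.ext pullback.condition.symm)
    (IsPullback.of_hasPullback b.left (baseMap R B (𝟙 (Spec (CommRingCat.of R))))).flip

variable {𝒳 𝒴 : AlgSt.Cat S} {f : 𝒳 ⥤ᵇ 𝒴} {y : FibCat.overCat (Over.mk strV) ⥤ᵇ 𝒴}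
  {c : FibCat.overCat P ⥤ᵇ FibCat.fp y f}

theorem isClosed_image_affine (h𝒳 : FibCat.IsFibGrpd 𝒳.p) (h𝒴 : FibCat.IsFibGrpd 𝒴.p) (hval : DVRLift f)
    [IsNoetherianRing R] [LocallyOfFiniteType b.left] [QuasiCompact b.left]
    (hc : AlgSt.RepByAlgSpWith (AlgSp.LocP @Smooth) c) (hcs : Function.Surjective (Points.ofChart c))
    (j : BasedFunctor.comp c (FibCat.fpFst y f) ≅ AlgSt.overMap b)
    (D : BChart (FibCat.fpFst y f) c (algTo B strV) (bcProj b B) (bcFst b B))
    (C : Set (Points (FibCat.fp (AlgSt.overMap (algTo B strV)) (FibCat.fpFst y f))))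
    (hC : IsClosed (Points.ofChart D.d ⁻¹' C)) :
    IsClosed ((bcProj b B).left '' (Points.ofChart D.d ⁻¹' C)) := by
  classical
  let π := FibCat.fpFst y f
  let j₀ := 𝟙 (Spec (CommRingCat.of R))
  have gP := fp_isFibGrpd (overCat_isFibGrpd (Over.mk strV)) h𝒳 h𝒴 y f
  let p : ↥(bc b B).left → ↥(algOver B strV).left := (bcProj b B).left
  let Ct : Set ↥(bc b B).left := Points.ofChart D.d ⁻¹' C
  rw [← isOpen_compl_iff, isOpen_iff_forall_mem_open]
  intro t' ht'
  set F := p ⁻¹' {t'}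
  have hW : ∀ z ∈ F, z ∈ (⟨Ctᶜ, hC.isOpen_compl⟩ : (pullback b.left (baseMap R B j₀)).Opens) :=
    fun z hz hzC => ht' ⟨z, hzC, hz⟩
  choose Sf N hzN hS using fun z : F => DVRVal.exists_descend_nhd b.left j₀ z.1 _ (hW z.1 z.2)
  obtain ⟨K, hK⟩ := ((pullback.snd b.left (baseMap R B j₀)).isCompact_preimage_singleton t').elim_finite_subcover
    (fun z : F => (N z : Set ↥(pullback b.left (baseMap R B j₀)))) (fun z => (N z).2)
    (fun z hz => Set.mem_iUnion.mpr ⟨⟨z, hz⟩, hzN ⟨z, hz⟩⟩)
  let B' := Algebra.adjoin R ((K.biUnion Sf : Finset B) : Set B)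
  have hfg : B'.FG := ⟨K.biUnion Sf, rfl⟩
  have hsub : ∀ z ∈ K, (Sf z : Set B) ⊆ B' := fun z hz =>
    (Finset.coe_subset.mpr (Finset.subset_biUnion_of_mem Sf hz)).trans Algebra.subset_adjoin
  haveI : Algebra.FiniteType R B' := (Subalgebra.fg_iff_finiteType B').1 hfg
  haveI : IsNoetherianRing B' := Algebra.FiniteType.isNoetherianRing R B'
  haveI : IsLocallyNoetherian (algOver B' strV).left :=
    inferInstanceAs (IsLocallyNoetherian (Spec (CommRingCat.of B')))
  haveI : LocallyOfFiniteType (bcProj b B').left :=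
    inferInstanceAs (LocallyOfFiniteType (pullback.snd b.left (baseMap R B' j₀)))
  haveI : QuasiCompact (bcProj b B').left :=
    inferInstanceAs (QuasiCompact (pullback.snd b.left (baseMap R B' j₀)))
  obtain ⟨D'⟩ := exists_bChart gP hc hcs j (isPullback_bc b B')
  let s : algOver B strV ⟶ algOver B' strV :=
    Over.homMk (toSub B') (by
      show _ ≫ _ ≫ strV = _ ≫ strV
      rw [← Category.assoc, DVRVal.toSub_baseMap])
  let tm : bc b B ⟶ bc b B' := Over.homMk (transMap b.left j₀ B') (by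
    show _ ≫ _ ≫ P.hom = _ ≫ P.hom
    rw [← Category.assoc, pullback.lift_fst, Category.comp_id])
  have sq : IsPullback (bcProj b B) tm s (bcProj b B') :=
    IsPullback.of_map (Over.forget S) (Over.OverMorphism.ext (DVRVal.isPullback_transMap b.left j₀ B').w.symm)
      (DVRVal.isPullback_transMap b.left j₀ B').flip
  have gT' := fp_isFibGrpd (overCat_isFibGrpd (algOver B' strV)) gP (overCat_isFibGrpd (Over.mk strV))
    (AlgSt.overMap (algTo B' strV)) π
  obtain ⟨D₂⟩ := exists_bChart gT' D'.smooth D'.surj D'.isoFst sq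
  have hs : s ≫ algTo B' strV = algTo B strV := Over.OverMorphism.ext (DVRVal.toSub_baseMap j₀ B')
  have htm : tm ≫ bcFst b B' = bcFst b B := Over.OverMorphism.ext (by
    show transMap b.left j₀ B' ≫ pullback.fst _ _ = _
    rw [pullback.lift_fst, Category.comp_id]
    rfl)
  let E := pasteMap (G := AlgSt.overMap (algTo B strV)) (g' := AlgSt.overMap (algTo B' strV)) π
    ((overMapComp s (algTo B' strV)) ≪≫ eqToIso (congrArg AlgSt.overMap hs)).symm
  obtain ⟨iE⟩ := iso_of_proj (BasedFunctor.comp D₂.d E) D.d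
    (D₂.isoFst ≪≫ D.isoFst.symm)
    (wrIso D₂.isoSnd (FibCat.fpSnd (AlgSt.overMap (algTo B' strV)) π) ≪≫
      wlIso (AlgSt.overMap tm) D'.isoSnd ≪≫ wrIso (overMapComp tm (bcFst b B')) c ≪≫
      wrIso (eqToIso (congrArg AlgSt.overMap htm)) c ≪≫ D.isoSnd.symm)
  have hCt : ∀ q, Points.map E (Points.ofChart D₂.d q) ∈ C ↔ q ∈ Ct := fun q => by
    rw [← ofChart_comp_apply, ofChart_congr iE]
    rfl
  let C₂ := Points.map E ⁻¹' C
  let pr := Points.map (FibCat.fpSnd (AlgSt.overMap s) (FibCat.fpFst (AlgSt.overMap (algTo B' strV)) π))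
  let C' := closure (pr '' C₂)
  have hcl := isClosed_image_noeth h𝒳 h𝒴 hval D' C' isClosed_closure
  have hmiss : toSub B' t' ∉ (bcProj b B').left '' (Points.ofChart D'.d ⁻¹' C') := by
    rintro ⟨z', hz', e⟩
    obtain ⟨q, hq1, hq2⟩ :=
      Scheme.exists_preimage_of_isPullback (DVRVal.isPullback_transMap b.left j₀ B') z' t' e
    obtain ⟨z, hzK, hzq⟩ := Set.mem_iUnion₂.mp (hK (show q ∈ F from hq2))
    obtain ⟨W'', hW''q, hW''⟩ := hS z B' (hsub z hzK) q hzq
    rw [hq1] at hW''q
    let Wset : Set ↥(bc b B').left := {v | v ∈ W''}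
    have hWo : IsOpen Wset := W''.2
    have hzW : z' ∈ Wset := hW''q
    obtain ⟨_, ⟨a, ha, rfl⟩, ⟨w, hw, hwa⟩⟩ := mem_closure_iff.mp hz' (Points.ofChart D'.d '' Wset)
      (D'.isOpenMap_ofChart gP _ hWo) ⟨z', hzW, rfl⟩
    obtain ⟨q', hq', hq'a⟩ := D₂.cart w a hwa
    refine hW'' q' ?_ ((hCt q').1 (show Points.map E (Points.ofChart D₂.d q') ∈ C by rw [hq']; exact hw))
    rw [show transMap b.left j₀ B' q' = a from hq'a]
    exact ha
  refine ⟨toSub B' ⁻¹' ((bcProj b B').left '' (Points.ofChart D'.d ⁻¹' C'))ᶜ, ?_,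
    hcl.isOpen_compl.preimage (Scheme.Hom.continuous _), hmiss⟩
  rintro t ht ⟨q, hq, rfl⟩
  refine ht ⟨transMap b.left j₀ B' q, ?_, ?_⟩
  · exact subset_closure ⟨Points.ofChart D₂.d q, (hCt q).2 hq, D₂.map_snd q⟩
  · exact congrArg (fun φ : _ ⟶ Spec (CommRingCat.of B') => φ q) (DVRVal.isPullback_transMap b.left j₀ B').w

end Groth.Agent.StUC16
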