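import Groth.Agent.Lib.StUC16.Chart

/-!
# Functors between iterated fibre products
-/

universe v₉ u₉ v₈ u₈ v₇ u₇ v₆ u₆ v₅ u₅ v₄ u₄ v₃ u₃ v₂ u₂ v u

open CategoryTheory CategoryTheory.Functor Groth.Agent.FC16 Groth.Agent.StAlg

set_option linter.style.haveILetI false
set_option linter.unusedSectionVars false
set_option backward.isDefEq.respectTransparency false
set_option backward.isDefEq.respectTransparency.types false

namespace Groth.Agent.StUC16

variable {C : Type u} [Category.{v} C] {𝒳 : BasedCategory.{v₂, u₂} C} {𝒴 : BasedCategory.{v₃, u₃} C}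
  {𝒮 : BasedCategory.{v₄, u₄} C} {𝒲 : BasedCategory.{v₅, u₅} C} {𝒵 : BasedCategory.{v₆, u₆} C}
  {𝒱 : BasedCategory.{v₇, u₇} C} {𝒜 : BasedCategory.{v₈, u₈} C}

section Swap

variable (h : 𝒵 ⥤ᵇ 𝒳) (F : 𝒳 ⥤ᵇ 𝒮) (G : 𝒴 ⥤ᵇ 𝒮)

/-- the base change of a fibre product read in the other order -/
noncomputable def swapMap : FibCat.fp G (BasedFunctor.comp h F) ⥤ᵇ FibCat.fp F G :=
  FibCat.fpLift (BasedFunctor.comp (FibCat.fpSnd G (BasedFunctor.comp h F)) h)
    (FibCat.fpFst G (BasedFunctor.comp h F)) ((FibCat.fpIso G (BasedFunctor.comp h F)).symm :)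

/-- the first component of the change of order -/
noncomputable def swapMapFst :
    BasedFunctor.comp (swapMap h F G) (FibCat.fpFst F G) ≅
      BasedFunctor.comp (FibCat.fpSnd G (BasedFunctor.comp h F)) h :=
  Iso.refl _

variable {h F G} (w : 𝒲 ⥤ᵇ FibCat.fp F G) (a : 𝒲 ⥤ᵇ 𝒵)
  (i : BasedFunctor.comp w (FibCat.fpFst F G) ≅ BasedFunctor.comp a h)

/-- the square given by an object of a fibre product with factored first component -/
noncomputable def swapIso :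
    BasedFunctor.comp (BasedFunctor.comp w (FibCat.fpSnd F G)) G ≅ BasedFunctor.comp a (BasedFunctor.comp h F) :=
  (wlIso w (FibCat.fpIso F G)).symm ≪≫ wrIso i F

/-- recovering a functor from its change of order -/
noncomputable def rebuildIso :
    w ≅ BasedFunctor.comp (FibCat.fpLift (BasedFunctor.comp w (FibCat.fpSnd F G)) a (swapIso w a i))
      (swapMap h F G) :=
  (liftIso w (BasedFunctor.comp a h) (BasedFunctor.comp w (FibCat.fpSnd F G))
    ((swapIso w a i).symm :) i (Iso.refl _) (fun x => by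
      change F.map (appIso i x).hom ≫ F.map (appIso i x).inv ≫ (w.obj x).obj.iso.hom =
        (w.obj x).obj.iso.hom ≫ G.map (𝟙 _)
      simp [← Functor.map_comp_assoc]) :)

end Swap

section Paste

variable {G : 𝒳 ⥤ᵇ 𝒮} {s : 𝒳 ⥤ᵇ 𝒵} {g' : 𝒵 ⥤ᵇ 𝒮} (π : 𝒴 ⥤ᵇ 𝒮) (i : G ≅ BasedFunctor.comp s g')

/-- transition functor of base changes -/
noncomputable def pasteMap : FibCat.fp s (FibCat.fpFst g' π) ⥤ᵇ FibCat.fp G π :=
  FibCat.fpLift (FibCat.fpFst s (FibCat.fpFst g' π))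
    (BasedFunctor.comp (FibCat.fpSnd s (FibCat.fpFst g' π)) (FibCat.fpSnd g' π))
    (wlIso (FibCat.fpFst s (FibCat.fpFst g' π)) i ≪≫
      (wrIso (FibCat.fpIso s (FibCat.fpFst g' π)) g' :) ≪≫
      (wlIso (FibCat.fpSnd s (FibCat.fpFst g' π)) (FibCat.fpIso g' π) :))

/-- first component of the transition functor -/
noncomputable def pasteMapFst :
    BasedFunctor.comp (pasteMap π i) (FibCat.fpFst G π) ≅ FibCat.fpFst s (FibCat.fpFst g' π) :=
  Iso.refl _

/-- second component of the transition functor -/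
noncomputable def pasteMapSnd :
    BasedFunctor.comp (pasteMap π i) (FibCat.fpSnd G π) ≅
      BasedFunctor.comp (FibCat.fpSnd s (FibCat.fpFst g' π)) (FibCat.fpSnd g' π) :=
  Iso.refl _

end Paste

theorem cancel_lemma {D : Type u₄} [Category.{v₄} D] {a b c e : D} (j : a ≅ b) (k : a ≅ c) (r : b ⟶ e) :
    j.inv ≫ k.hom ≫ k.inv ≫ j.hom ≫ r = r := by simp

section Top

variable {g₀ : 𝒵 ⥤ᵇ 𝒮} (f : 𝒳 ⥤ᵇ 𝒮) {w : 𝒜 ⥤ᵇ 𝒵} {gA : 𝒜 ⥤ᵇ 𝒱} {y : 𝒱 ⥤ᵇ 𝒮}
  (i : BasedFunctor.comp w g₀ ≅ BasedFunctor.comp gA y)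

/-- the square of the forward functor -/
noncomputable def fwdIso :
    BasedFunctor.comp (BasedFunctor.comp (FibCat.fpFst gA (FibCat.fpFst y f)) w) g₀ ≅
      BasedFunctor.comp (BasedFunctor.comp (FibCat.fpSnd gA (FibCat.fpFst y f)) (FibCat.fpSnd y f)) f :=
  (wlIso (FibCat.fpFst gA (FibCat.fpFst y f)) i :) ≪≫
    (wrIso (FibCat.fpIso gA (FibCat.fpFst y f)) y :) ≪≫
    (wlIso (FibCat.fpSnd gA (FibCat.fpFst y f)) (FibCat.fpIso y f) :)

/-- from the base change along a chart to the original base change -/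
noncomputable def fwd : FibCat.fp gA (FibCat.fpFst y f) ⥤ᵇ FibCat.fp g₀ f :=
  FibCat.fpLift (BasedFunctor.comp (FibCat.fpFst gA (FibCat.fpFst y f)) w)
    (BasedFunctor.comp (FibCat.fpSnd gA (FibCat.fpFst y f)) (FibCat.fpSnd y f)) (fwdIso f i)

/-- first component of the forward functor -/
noncomputable def fwdFst :
    BasedFunctor.comp (fwd f i) (FibCat.fpFst g₀ f) ≅ BasedFunctor.comp (FibCat.fpFst gA (FibCat.fpFst y f)) w :=
  Iso.refl _

/-- the inner part of the backward functor -/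
noncomputable def bwdSnd : FibCat.fp w (FibCat.fpFst g₀ f) ⥤ᵇ FibCat.fp y f :=
  FibCat.fpLift (BasedFunctor.comp (FibCat.fpFst w (FibCat.fpFst g₀ f)) gA)
    (BasedFunctor.comp (FibCat.fpSnd w (FibCat.fpFst g₀ f)) (FibCat.fpSnd g₀ f))
    ((wlIso (FibCat.fpFst w (FibCat.fpFst g₀ f)) i.symm :) ≪≫
      (wrIso (FibCat.fpIso w (FibCat.fpFst g₀ f)) g₀ :) ≪≫
      (wlIso (FibCat.fpSnd w (FibCat.fpFst g₀ f)) (FibCat.fpIso g₀ f) :))

/-- backward functor -/
noncomputable def bwd : FibCat.fp w (FibCat.fpFst g₀ f) ⥤ᵇ FibCat.fp gA (FibCat.fpFst y f) :=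
  FibCat.fpLift (FibCat.fpFst w (FibCat.fpFst g₀ f)) (bwdSnd f i)
    (Iso.refl (BasedFunctor.comp (FibCat.fpFst w (FibCat.fpFst g₀ f)) gA) :)

/-- the backward functor followed by the forward one -/
noncomputable def bwdFwd :
    FibCat.fpSnd w (FibCat.fpFst g₀ f) ≅ BasedFunctor.comp (bwd f i) (fwd f i) :=
  (liftIso (FibCat.fpSnd w (FibCat.fpFst g₀ f))
    (BasedFunctor.comp (bwd f i) (BasedFunctor.comp (FibCat.fpFst gA (FibCat.fpFst y f)) w))
    (BasedFunctor.comp (bwd f i) (BasedFunctor.comp (FibCat.fpSnd gA (FibCat.fpFst y f)) (FibCat.fpSnd y f)))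
    (wlIso (bwd f i) (fwdIso f i))
    ((FibCat.fpIso w (FibCat.fpFst g₀ f)).symm :) (Iso.refl _) (fun x => by
      change g₀.map (appIso (FibCat.fpIso w (FibCat.fpFst g₀ f)) x).inv ≫
          (appIso i x.obj.fst).hom ≫ y.map (𝟙 _) ≫ (appIso i x.obj.fst).inv ≫ g₀.map x.obj.iso.hom ≫
            x.obj.snd.obj.iso.hom = x.obj.snd.obj.iso.hom ≫ f.map (𝟙 _)
      rw [y.toFunctor.map_id, f.toFunctor.map_id]
      erw [Category.id_comp, Category.comp_id]
      exact cancel_lemma (g₀.toFunctor.mapIso x.obj.iso) (appIso i x.obj.fst) x.obj.snd.obj.iso.hom) :)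

end Top

end Groth.Agent.StUC16
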