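import Groth.Agent.Lib.StUC16.Functors
import Groth.Agent.Lib.GrpdB.Topology
import Groth.Agent.Lib.ChartLift16.Hens
import Groth.Agent.S4450

/-!
# Closedness over Noetherian bases from lifting of discrete valuation rings
-/

universe u

open CategoryTheory CategoryTheory.Functor CategoryTheory.Limits AlgebraicGeometry Opposite

set_option linter.style.haveILetI false
set_option linter.unusedSectionVars false
set_option backward.isDefEq.respectTransparency false
set_option backward.isDefEq.respectTransparency.types false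

namespace Groth.Agent.StUC16

open Groth.Agent.FC16 hiding overMap
open Groth.Agent.StAlg Groth.Agent.StAlg16 AlgSt

variable {S : Scheme.{u}} {𝒳 𝒴 : AlgSt.Cat S}

/-- the valuative criterion with extensions -/
def DVRLift (f : 𝒳 ⥤ᵇ 𝒴) : Prop :=
  ∀ (R : Type u) [CommRing R] [IsDomain R] [IsDiscreteValuationRing R]
    (sR : Spec (CommRingCat.of R) ⟶ S)
    (a : FibCat.overCat (Over.mk (Spec.map (CommRingCat.ofHom (algebraMap R (FractionRing R))) ≫ sR)) ⥤ᵇ 𝒳)
    (b : FibCat.overCat (Over.mk sR) ⥤ᵇ 𝒴)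
    (α : BasedFunctor.comp a f ≅
      BasedFunctor.comp (AlgSt.overMap (Over.homMk (Spec.map (CommRingCat.ofHom (algebraMap R (FractionRing R)))) rfl :
        Over.mk (Spec.map (CommRingCat.ofHom (algebraMap R (FractionRing R))) ≫ sR) ⟶ Over.mk sR)) b),
    ∃ (R' : Type u) (_ : CommRing R') (_ : IsDomain R') (_ : IsDiscreteValuationRing R') (φ : R →+* R')
      (_ : Function.Injective φ) (_ : IsLocalHom φ)
      (gψ : (Over.mk (Spec.map (CommRingCat.ofHom (algebraMap R' (FractionRing R'))) ≫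
              Spec.map (CommRingCat.ofHom φ) ≫ sR) : Over S) ⟶
            Over.mk (Spec.map (CommRingCat.ofHom (algebraMap R (FractionRing R))) ≫ sR))
      (c : FibCat.overCat (Over.mk (Spec.map (CommRingCat.ofHom φ) ≫ sR)) ⥤ᵇ FibCat.fp f b),
      gψ ≫ (Over.homMk (Spec.map (CommRingCat.ofHom (algebraMap R (FractionRing R)))) rfl :
          Over.mk (Spec.map (CommRingCat.ofHom (algebraMap R (FractionRing R))) ≫ sR) ⟶ Over.mk sR) =
        (Over.homMk (Spec.map (CommRingCat.ofHom (algebraMap R' (FractionRing R')))) rfl :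
            Over.mk (Spec.map (CommRingCat.ofHom (algebraMap R' (FractionRing R'))) ≫
              Spec.map (CommRingCat.ofHom φ) ≫ sR) ⟶ Over.mk (Spec.map (CommRingCat.ofHom φ) ≫ sR)) ≫
          (Over.homMk (Spec.map (CommRingCat.ofHom φ)) rfl :
            Over.mk (Spec.map (CommRingCat.ofHom φ) ≫ sR) ⟶ Over.mk sR) ∧
      Nonempty (BasedFunctor.comp c (FibCat.fpSnd f b) ≅
        AlgSt.overMap (Over.homMk (Spec.map (CommRingCat.ofHom φ)) rfl :
          Over.mk (Spec.map (CommRingCat.ofHom φ) ≫ sR) ⟶ Over.mk sR)) ∧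
      Nonempty (BasedFunctor.comp
          (AlgSt.overMap (Over.homMk (Spec.map (CommRingCat.ofHom (algebraMap R' (FractionRing R')))) rfl :
            Over.mk (Spec.map (CommRingCat.ofHom (algebraMap R' (FractionRing R'))) ≫
              Spec.map (CommRingCat.ofHom φ) ≫ sR) ⟶ Over.mk (Spec.map (CommRingCat.ofHom φ) ≫ sR))) c ≅
        BasedFunctor.comp (AlgSt.overMap gψ)
          (FibCat.fpLift a
            (AlgSt.overMap (Over.homMk (Spec.map (CommRingCat.ofHom (algebraMap R (FractionRing R)))) rfl :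
              Over.mk (Spec.map (CommRingCat.ofHom (algebraMap R (FractionRing R))) ≫ sR) ⟶ Over.mk sR)) α))

/-- charts of a category with a smooth surjective chart are continuous -/
theorem continuous_ofChart_of_chart {𝒵 : AlgSt.Cat S} (g𝒵 : FibCat.IsFibGrpd 𝒵.p) {U : Over S}
    {x : FibCat.overCat U ⥤ᵇ 𝒵} (hx : AlgSt.RepByAlgSpWith (AlgSp.LocP @Smooth) x)
    (hxs : Function.Surjective (Points.ofChart x)) {V : Over S} (y : FibCat.overCat V ⥤ᵇ 𝒵) :
    Continuous (Points.ofChart y) := by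
  refine continuous_def.2 fun O hO => ?_
  obtain ⟨W, k, h, ⟨i⟩, hsq, hk⟩ := isOpenMap_left g𝒵 (with_locP_mono smooth_le_flat hx)
    (with_locP_mono smooth_le_lfp hx) V y
  have e : Points.ofChart y ⁻¹' O = k.left '' (h.left ⁻¹' (Points.ofChart x ⁻¹' O)) := by
    rw [← preimage_image_ofChart i hsq, Set.image_preimage_eq _ hxs]
  rw [e]
  exact hk _ ((hO U x hx).preimage h.left.continuous)

theorem chartPt_injective {U : Over S} {a b : U.left}
    (h : Points.mk (chartPt U a) = Points.mk (chartPt U b)) : a = b := by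
  rw [← ptOf_chartPt a, h, ptOf_chartPt]

variable {f : 𝒳 ⥤ᵇ 𝒴} {V P T Q : Over S} {y : FibCat.overCat V ⥤ᵇ 𝒴}
  {c : FibCat.overCat P ⥤ᵇ FibCat.fp y f} {g : T ⟶ V} {p₁ : Q ⟶ T} {p₂ : Q ⟶ P}

/-- Over a Noetherian base, images of closed saturated sets are closed. -/
theorem isClosed_image_noeth (h𝒳 : FibCat.IsFibGrpd 𝒳.p) (h𝒴 : FibCat.IsFibGrpd 𝒴.p)
    (hval : DVRLift f) [IsLocallyNoetherian T.left] [LocallyOfFiniteType p₁.left] [QuasiCompact p₁.left]
    (D : BChart (FibCat.fpFst y f) c g p₁ p₂)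
    (C' : Set (Points (FibCat.fp (AlgSt.overMap g) (FibCat.fpFst y f)))) (hC' : IsClosed C') :
    IsClosed (p₁.left '' (Points.ofChart D.d ⁻¹' C')) := by
  have gP := fp_isFibGrpd (overCat_isFibGrpd V) h𝒳 h𝒴 y f
  have gT := fp_isFibGrpd (overCat_isFibGrpd T) gP (overCat_isFibGrpd V) (AlgSt.overMap g) (FibCat.fpFst y f)
  have hC'' : IsClosed (Points.ofChart D.d ⁻¹' C') :=
    hC'.preimage (continuous_ofChart_of_chart gT D.smooth D.surj _)
  refine isClosed_of_closure_subset fun t₀ ht₀ => ?_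
  obtain ⟨x, hx, hsp⟩ := GrpdB.exists_specializes_of_mem_closure_image p₁.left hC'' ht₀
  by_cases hne : t₀ = p₁.left x
  · exact ⟨x, hx, hne.symm⟩
  obtain ⟨A, h, hA, hh, hc⟩ := Groth.Agent.S4450.result p₁.left x t₀ hsp hne
  haveI := hA
  let e : FractionRing A ≃ₐ[A] Q.left.residueField x := FractionRing.algEquiv A _
  let sR := h ≫ T.hom
  let eA : Over.mk (Spec.map (CommRingCat.ofHom (algebraMap A (FractionRing A))) ≫ sR) ⟶ Over.mk sR :=
    Over.homMk (Spec.map (CommRingCat.ofHom (algebraMap A (FractionRing A)))) rfl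
  let hT : Over.mk sR ⟶ T := Over.homMk h rfl
  let k : Spec (CommRingCat.of (FractionRing A)) ⟶ Q.left :=
    Spec.map (CommRingCat.ofHom e.symm.toRingEquiv.toRingHom) ≫ Q.left.fromSpecResidueField x
  have hk : k ≫ p₁.left = Spec.map (CommRingCat.ofHom (algebraMap A (FractionRing A))) ≫ h := by
    rw [Category.assoc]
    refine (congrArg (fun q => Spec.map (CommRingCat.ofHom e.symm.toRingEquiv.toRingHom) ≫ q) hc.symm).trans ?_
    rw [← Category.assoc, ← Spec.map_comp]
    congr 2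
    ext a
    exact e.symm.commutes a
  let kQ : Over.mk (Spec.map (CommRingCat.ofHom (algebraMap A (FractionRing A))) ≫ sR) ⟶ Q :=
    Over.homMk k (by
      show k ≫ Q.hom = _
      rw [← Over.w p₁, ← Category.assoc, hk, Category.assoc]
      rfl)
  have hkQ : kQ ≫ p₁ = eA ≫ hT := Over.OverMorphism.ext hk
  let G := AlgSt.overMap g
  let π := FibCat.fpFst y f
  let ρ := BasedFunctor.comp (BasedFunctor.comp (AlgSt.overMap kQ) D.d) (FibCat.fpSnd G π)
  let j₁ : BasedFunctor.comp ρ π ≅ BasedFunctor.comp (AlgSt.overMap eA) (AlgSt.overMap (hT ≫ g)) :=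
    wlIso (BasedFunctor.comp (AlgSt.overMap kQ) D.d) (FibCat.fpIso G π).symm ≪≫
      wlIso (AlgSt.overMap kQ) (wrIso D.isoFst G ≪≫ overMapComp p₁ g) ≪≫ overMapComp kQ (p₁ ≫ g) ≪≫
      eqToIso (congrArg AlgSt.overMap ((Category.assoc kQ p₁ g).symm.trans ((congrArg (· ≫ g) hkQ).trans (Category.assoc eA hT g)))) ≪≫
      (overMapComp eA (hT ≫ g)).symm
  obtain ⟨R', _, _, _, φ, -, hφ, gψ, cR, heq, ⟨iS⟩, ⟨iG⟩⟩ :=
    hval A sR (BasedFunctor.comp ρ (FibCat.fpSnd y f)) (BasedFunctor.comp (AlgSt.overMap (hT ≫ g)) y)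
      (swapIso ρ (AlgSt.overMap eA) j₁)
  let φ' : Over.mk (Spec.map (CommRingCat.ofHom φ) ≫ sR) ⟶ Over.mk sR :=
    Over.homMk (Spec.map (CommRingCat.ofHom φ)) rfl
  let eR : (Over.mk (Spec.map (CommRingCat.ofHom (algebraMap R' (FractionRing R'))) ≫
      Spec.map (CommRingCat.ofHom φ) ≫ sR) : Over S) ⟶ Over.mk (Spec.map (CommRingCat.ofHom φ) ≫ sR) :=
    Over.homMk (Spec.map (CommRingCat.ofHom (algebraMap R' (FractionRing R')))) rfl
  let zS := BasedFunctor.comp cR (swapMap (AlgSt.overMap (hT ≫ g)) y f)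
  let j₂ : BasedFunctor.comp zS π ≅ BasedFunctor.comp (AlgSt.overMap (φ' ≫ hT)) G :=
    wlIso cR (swapMapFst (AlgSt.overMap (hT ≫ g)) y f) ≪≫ wrIso iS (AlgSt.overMap (hT ≫ g)) ≪≫
      overMapComp φ' (hT ≫ g) ≪≫ eqToIso (congrArg AlgSt.overMap (Category.assoc φ' hT g).symm) ≪≫
      (overMapComp (φ' ≫ hT) g).symm
  let z := FibCat.fpLift (F := G) (G := π) (AlgSt.overMap (φ' ≫ hT)) zS j₂.symm
  let z₀ := Points.ofChart z (IsLocalRing.closedPoint R')
  have hz₀ : z₀ ∈ C' := by
    have hcont := continuous_ofChart_of_chart gT D.smooth D.surj z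
    let η : ↥(Spec (CommRingCat.of (FractionRing R'))) := IsLocalRing.closedPoint _
    have hsp' : eR.left η ⤳ IsLocalRing.closedPoint R' := IsLocalRing.specializes_closedPoint _
    refine (hsp'.map hcont).mem_closed hC' ?_
    obtain ⟨i⟩ := iso_of_proj (F := G) (G := π) (BasedFunctor.comp (AlgSt.overMap eR) z)
      (BasedFunctor.comp (AlgSt.overMap (gψ ≫ kQ)) D.d)
      (overMapComp eR (φ' ≫ hT) ≪≫ eqToIso (congrArg AlgSt.overMap (((Category.assoc eR φ' hT).symm.trans
          ((congrArg (· ≫ hT) heq.symm).trans (Category.assoc gψ eA hT))).trans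
          (((congrArg (gψ ≫ ·) hkQ).symm).trans (Category.assoc gψ kQ p₁).symm)))
        ≪≫ (overMapComp (gψ ≫ kQ) p₁).symm ≪≫ wlIso (AlgSt.overMap (gψ ≫ kQ)) D.isoFst.symm)
      (wrIso iG (swapMap (AlgSt.overMap (hT ≫ g)) y f) ≪≫
        wlIso (AlgSt.overMap gψ) (rebuildIso ρ (AlgSt.overMap eA) j₁).symm ≪≫
        wrIso (overMapComp gψ kQ) (BasedFunctor.comp D.d (FibCat.fpSnd G π)))
    have hp : (gψ ≫ kQ).left η = x := by
      rw [Over.comp_left, Scheme.Hom.comp_apply]
      show k (gψ.left η) = x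
      rw [Scheme.Hom.comp_apply]
      exact Q.left.fromSpecResidueField_apply x _
    rw [← ofChart_overMap eR z, ofChart_congr i, ofChart_overMap, hp]
    exact hx
  obtain ⟨q, hq⟩ := D.surj z₀
  refine ⟨q, show Points.ofChart D.d q ∈ C' by rw [hq]; exact hz₀, chartPt_injective (U := T) ?_⟩
  rw [← D.map_fst, hq]
  show Points.map (FibCat.fpFst G π) (Points.ofChart z (IsLocalRing.closedPoint R')) = _
  rw [← ofChart_comp_apply]
  refine (ofChart_overMap_self (φ' ≫ hT) (IsLocalRing.closedPoint R')).trans ?_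
  congr 2
  show h (Spec.map (CommRingCat.ofHom φ) (IsLocalRing.closedPoint R')) = t₀
  rw [show Spec.map (CommRingCat.ofHom φ) (IsLocalRing.closedPoint R') = IsLocalRing.closedPoint A from
    (IsLocalRing.isLocalHom_iff_comap_closedPoint φ).1 hφ]
  exact hh

end Groth.Agent.StUC16
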