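import Groth.Agent.Lib.StUC16.Descend
import Groth.Agent.Lib.StAlg16.LocPInst
import Groth.Agent.Lib.StAlg16.LocQApps

/-!
# The valuative criterion for universal closedness of morphisms of stacks
-/

universe u

open CategoryTheory CategoryTheory.Functor CategoryTheory.Limits AlgebraicGeometry Opposite

set_option linter.style.haveILetI false
set_option linter.unusedSectionVars false
set_option backward.isDefEq.respectTransparency false
set_option backward.isDefEq.respectTransparency.types false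

namespace Groth.Agent.StUC16

open Groth.Agent.FC16 hiding overMap
open Groth.Agent.StAlg Groth.Agent.StAlg16 AlgSt

variable {S : Scheme.{u}} {𝒳 𝒴 : AlgSt.Cat S}

/-- the map of spectra of an algebra -/
noncomputable abbrev baseMap' (R B : Type u) [CommRing R] [CommRing B] [Algebra R B] :=
  DVRVal.baseMap R B (𝟙 (Spec (CommRingCat.of R)))

/-- a set is closed if its preimage under an open surjection is closed -/
theorem isClosed_of_preimage {X Y : Type*} [TopologicalSpace X] [TopologicalSpace Y] {p : X → Y}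
    (ho : IsOpenMap p) (hs : Function.Surjective p) {M : Set Y} (h : IsClosed (p ⁻¹' M)) : IsClosed M := by
  rw [← isOpen_compl_iff, ← Set.image_preimage_eq Mᶜ hs]
  exact ho _ (by rw [Set.preimage_compl]; exact h.isOpen_compl)

/-- image of a closed set in an affine piece over an affine Noetherian chart of the target -/
theorem isClosed_preimage_piece (h𝒳 : AlgSt.IsAlgStack Scheme.etalePrecoverage 𝒳)
    (h𝒴 : AlgSt.IsAlgStack Scheme.etalePrecoverage 𝒴) {f : 𝒳 ⥤ᵇ 𝒴}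
    (hqc : AlgSt.IsQuasiCompactMor Scheme.etalePrecoverage f)
    (hft : AlgSt.LocQ (AlgSp.LocP @LocallyOfFiniteType) f) (hval : DVRLift f)
    {R : Type u} [CommRing R] [IsNoetherianRing R] {strV : Spec (CommRingCat.of R) ⟶ S}
    {y : FibCat.overCat (Over.mk strV) ⥤ᵇ 𝒴} (hy : AlgSt.RepByAlgSpWith (AlgSp.LocP @Smooth) y)
    {𝒵 : AlgSt.Cat S} (h𝒵 : AlgSt.IsAlgStack Scheme.etalePrecoverage 𝒵) (g₀ : 𝒵 ⥤ᵇ 𝒴)
    (B : Type u) [CommRing B] [Algebra R B] (w : FibCat.overCat (algOver B strV) ⥤ᵇ 𝒵)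
    (i : BasedFunctor.comp w g₀ ≅ BasedFunctor.comp (AlgSt.overMap (algTo B strV)) y)
    (C : Set (Points (FibCat.fp g₀ f))) (hC : IsClosed C) :
    IsClosed (Points.ofChart w ⁻¹' (Points.map (FibCat.fpFst g₀ f) '' C)) := by
  have gX := h𝒳.isStack.1
  have gY := h𝒴.isStack.1
  have gZ := h𝒵.isStack.1
  have gA := overCat_isFibGrpd (algOver B strV)
  have gV := overCat_isFibGrpd (Over.mk strV)
  have gP := fp_isFibGrpd gV gX gY y f
  haveI : IsAffine (Over.mk strV).left := inferInstanceAs (IsAffine (Spec (CommRingCat.of R)))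
  obtain ⟨P, c, hP, hc, hcs⟩ := hqc (FibCat.overCat (Over.mk strV))
    (ChartLift16.isAlgStack_etale_of_fppf (isAlgStack_overCat _)) (StAlg16.isQuasiCompact_overCat _) y
  haveI := hP
  obtain ⟨b, ⟨j⟩⟩ := exists_overMap_iso (BasedFunctor.comp c (FibCat.fpFst y f))
  haveI : LocallyOfFiniteType b.left :=
    (locP_yon_iff b).1 (of_locQ isSmoothLocalST_lft gX gY hft hy j hc)
  haveI : QuasiCompact b.left := inferInstance
  obtain ⟨D⟩ := exists_bChart gP hc (surjective_ofChart gP hcs) j (isPullback_bc b B)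
  have hA := StAlg.isAlgStack_fp h𝒴.isStack h𝒴.diag h𝒵 h𝒳 g₀ f
  obtain ⟨U, u, hu, hus⟩ := hA.atlas
  let Φ := fwd f i
  have hCt : IsClosed (Points.ofChart D.d ⁻¹' (Points.map Φ ⁻¹' C)) := by
    have h := hC.preimage (continuous_ofChart_of_chart hA.isStack.1 hu (surjective_ofChart hA.isStack.1 hus)
      (BasedFunctor.comp D.d Φ))
    have e : Points.ofChart (BasedFunctor.comp D.d Φ) ⁻¹' C = Points.ofChart D.d ⁻¹' (Points.map Φ ⁻¹' C) := by
      ext q
      simp only [Set.mem_preimage, ofChart_comp_apply]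
    rwa [e] at h
  have hcl := isClosed_image_affine b B gX gY hval hc (surjective_ofChart gP hcs) j D _ hCt
  convert hcl using 1
  ext x
  constructor
  · rintro ⟨z, hz, hzx⟩
    obtain ⟨u₀, hu₁, hu₂⟩ := exists_fp_point (fp_isFibGrpd gZ gX gY g₀ f) gZ gA (FibCat.fpFst g₀ f) w
      (Points.mk (chartPt (algOver B strV) x)) z (by rw [hzx, ofChart_eq])
    obtain ⟨q, hq⟩ := D.surj (Points.map (bwd f i) u₀)
    refine ⟨q, ?_, ?_⟩
    · show Points.map Φ (Points.ofChart D.d q) ∈ C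
      rw [hq, ← StAlg16.map_comp_apply, ← map_eq_map_of_iso (bwdFwd f i), hu₂]
      exact hz
    · apply chartPt_injective (U := algOver B strV)
      rw [← D.map_fst, hq, ← StAlg16.map_comp_apply]
      exact hu₁
  · rintro ⟨q, hq, rfl⟩
    refine ⟨_, hq, ?_⟩
    rw [← StAlg16.map_comp_apply, map_eq_map_of_iso (fwdFst f i), StAlg16.map_comp_apply, D.map_fst, ofChart_eq]

/-- **The valuative criterion for universal closedness.** -/
theorem main (h𝒳 : AlgSt.IsAlgStack Scheme.etalePrecoverage 𝒳)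
    (h𝒴 : AlgSt.IsAlgStack Scheme.etalePrecoverage 𝒴)
    (hn : AlgSt.SmoothLocally (fun T => IsLocallyNoetherian T) 𝒴)
    {f : 𝒳 ⥤ᵇ 𝒴} (hqc : AlgSt.IsQuasiCompactMor Scheme.etalePrecoverage f)
    (hft : AlgSt.LocQ (AlgSp.LocP @LocallyOfFiniteType) f) (hval : DVRLift f) :
    AlgSt.IsUnivClosed Scheme.etalePrecoverage f := by
  intro 𝒵 h𝒵 g₀ C hC
  have gY := h𝒴.isStack.1
  have gZ := h𝒵.isStack.1
  obtain ⟨W, w, hw, hws⟩ := h𝒵.atlas
  obtain ⟨V, y, hy, hys⟩ := h𝒴.atlas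
  haveI : IsLocallyNoetherian V.left := hn V y hy
  refine isClosed_of_preimage
    (isOpenMap_ofChart gZ (with_locP_mono smooth_le_flat hw) (with_locP_mono smooth_le_lfp hw))
    (surjective_ofChart gZ hws) ?_
  obtain ⟨W₁, k, h, ⟨i⟩, hsq, hk⟩ := isOpenMap_left gY (with_locP_mono smooth_le_flat hy)
    (with_locP_mono smooth_le_lfp hy) W (BasedFunctor.comp w g₀)
  refine isClosed_of_preimage hk (fun v => ?_) ?_
  · obtain ⟨t, ht⟩ := surjective_ofChart gY hys (Points.ofChart (BasedFunctor.comp w g₀) v)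
    obtain ⟨o, ho, -⟩ := hsq v t ht.symm
    exact ⟨o, ho⟩
  rw [← isOpen_compl_iff, isOpen_iff_forall_mem_open]
  intro x hx
  obtain ⟨_, ⟨V₀, hV₀, rfl⟩, hxV, -⟩ :=
    V.left.isBasis_affineOpens.exists_subset_of_mem_open (Set.mem_univ (h.left x)) isOpen_univ
  obtain ⟨_, ⟨A, hA, rfl⟩, hxA, hAV⟩ :=
    W₁.left.isBasis_affineOpens.exists_subset_of_mem_open (show x ∈ h.left ⁻¹ᵁ V₀ from hxV) (h.left ⁻¹ᵁ V₀).2
  haveI := IsLocallyNoetherian.component_noetherian (X := V.left) ⟨V₀, hV₀⟩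
  haveI : IsOpenImmersion hV₀.fromSpec := IsAffineOpen.isOpenImmersion_fromSpec hV₀
  haveI : IsOpenImmersion hA.fromSpec := IsAffineOpen.isOpenImmersion_fromSpec hA
  have hrange : Set.range (hA.fromSpec ≫ h.left) ⊆ Set.range hV₀.fromSpec := by
    rintro _ ⟨p, rfl⟩
    rw [hV₀.range_fromSpec]
    exact hAV (hA.range_fromSpec ▸ Set.mem_range_self p)
  let m := IsOpenImmersion.lift hV₀.fromSpec (hA.fromSpec ≫ h.left) hrange
  letI : Algebra Γ(V.left, V₀) Γ(W₁.left, A) := (Spec.preimage m).hom.toAlgebra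
  let strV := hV₀.fromSpec ≫ V.hom
  let ιV : Over.mk strV ⟶ V := Over.homMk hV₀.fromSpec rfl
  have hm : baseMap' Γ(V.left, V₀) Γ(W₁.left, A) ≫ hV₀.fromSpec = hA.fromSpec ≫ h.left := by
    change (Spec.map (Spec.preimage m) ≫ 𝟙 _) ≫ _ = _
    rw [Category.comp_id, Spec.map_preimage, IsOpenImmersion.lift_fac]
  let ιA : algOver (Γ(W₁.left, A) : Type u) strV ⟶ W₁ := Over.homMk hA.fromSpec (by
    show hA.fromSpec ≫ W₁.hom = _ ≫ hV₀.fromSpec ≫ V.hom
    exact ((congrArg (hA.fromSpec ≫ ·) (Over.w h).symm).trans (Category.assoc _ _ _).symm).trans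
      ((congrArg (· ≫ V.hom) hm.symm).trans (Category.assoc _ _ _)))
  have hι : ιA ≫ h = algTo (Γ(W₁.left, A) : Type u) strV ≫ ιV := Over.OverMorphism.ext hm.symm
  have hy₀ : AlgSt.RepByAlgSpWith (AlgSp.LocP @Smooth) (BasedFunctor.comp (AlgSt.overMap ιV) y) :=
    with_comp goodP_locP (overCat_isFibGrpd _) (overCat_isFibGrpd V)
      (with_locP_overMap ιV (inferInstanceAs (Smooth hV₀.fromSpec))) hy
  have hcl := isClosed_preimage_piece h𝒳 h𝒴 hqc hft hval hy₀ h𝒵 g₀ (Γ(W₁.left, A) : Type u)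
    (BasedFunctor.comp (AlgSt.overMap (ιA ≫ k)) w)
    (wrIso (overMapComp ιA k).symm (BasedFunctor.comp w g₀) ≪≫ wlIso (AlgSt.overMap ιA) i ≪≫
      wrIso (overMapComp ιA h ≪≫ eqToIso (congrArg AlgSt.overMap hι) ≪≫ (overMapComp _ ιV).symm) y) C hC
  refine ⟨hA.fromSpec '' (Points.ofChart (BasedFunctor.comp (AlgSt.overMap (ιA ≫ k)) w) ⁻¹'
    (Points.map (FibCat.fpFst g₀ f) '' C))ᶜ, ?_, hA.fromSpec.isOpenEmbedding.isOpenMap _ hcl.isOpen_compl, ?_⟩
  · rintro _ ⟨p, hp, rfl⟩ hp'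
    exact hp (by rw [Set.mem_preimage, ofChart_overMap]; exact hp')
  · obtain ⟨p, rfl⟩ : x ∈ Set.range hA.fromSpec := by rw [hA.range_fromSpec]; exact hxA
    exact ⟨p, fun hp => hx (by rw [Set.mem_preimage, ofChart_overMap] at hp; exact hp), rfl⟩

end Groth.Agent.StUC16
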